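import Cfsg.Agent.H686.Four.SevenCo1
import Cfsg.Agent.H686.Four.GTwoSeven
import Cfsg.Agent.StdG24.Iso6
import Cfsg.Agent.KFacts.Co1D4.Main
import Cfsg.Agent.S0399

/-!
# `Co₁` : the class of the elements of order seven of `G₂(4) ≤ C(2²)` is not nilpotent modulo two

`loc_Co1` : `Loc S` for `S ≅ Co₁` (for S5009, S5004, S5007).
-/

set_option autoImplicit false

open Cfsg

namespace Cfsg.Agent.H686.Four.CoOne

open Cfsg.Agent.H652.Four
open Cfsg.Agent.Blocks Cfsg.Agent.Blocks.LocalRing
open Cfsg.Agent.KFacts.Co1D4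
open Subgroup

universe u

theorem cl_mem {G : Type*} [Group G] {M : Ideal AlgInt} {p : ℕ} (hM : IsPModular p M) (x g : G) :
    MemLocalRing M (cl x g) := by
  by_cases h : IsConj x g
  · rw [cl_pos h]
    exact_mod_cast memLocalRing_natCast hM 1
  · rw [cl_neg h]
    exact_mod_cast memLocalRing_natCast hM 0

section Trans

variable {K : Type u} [Group K]

theorem card_centralizer_congr {G H : Type*} [Group G] [Group H] (e : G ≃* H) (x : G) :
    Nat.card (centralizer ({e x} : Set H)) = Nat.card (centralizer ({x} : Set G)) := by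
  have h : centralizer ({e x} : Set H) = (centralizer ({x} : Set G)).map e.toMonoidHom := by
    ext g
    rw [Subgroup.mem_map, mem_centralizer_singleton_iff]
    constructor
    · intro h
      refine ⟨e.symm g, ?_, by simp⟩
      rw [mem_centralizer_singleton_iff]
      apply e.injective
      simpa using h
    · rintro ⟨c, hc, rfl⟩
      rw [mem_centralizer_singleton_iff] at hc
      have := congrArg e hc
      simpa using this
  rw [h]
  exact Subgroup.card_map_of_injective e.injective

/-- the facts on a group isomorphic to `G₂(4)` -/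
theorem facts (e : K ≃* StdG24.Mod6.L) : Nat.card K = 251596800 ∧ FixBN.HasSplit 2 K ∧
    ∃ y : K, orderOf y = 7 ∧ Nat.card (centralizer ({y} : Set K)) = 21 := by
  have h2 : Fact (Nat.Prime 2) := ⟨Nat.prime_two⟩
  have := Fintype.ofFinite (GaloisField 2 2)
  have hF : Fintype.card (GaloisField 2 2) = 4 := by
    rw [← Nat.card_eq_fintype_card, GaloisField.card 2 2 (by norm_num)]
    norm_num
  obtain ⟨f⟩ := StdG24.Iso6.equiv_chev (GaloisField 2 2) hF
  have hs : IsSimpleGroup K := by
    have := StdG24.Facts6.simple_L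
    exact MulEquiv.isSimpleGroup e
  refine ⟨?_, ?_, ?_⟩
  · rw [Nat.card_congr e.toEquiv, StdG24.Ord6.card_L]
  · apply H996.AllSplit.hasSplit_of_lie Nat.prime_two
    refine Or.inr (Or.inr (Or.inr (Or.inr (Or.inr (Or.inr (Or.inl
      ⟨GaloisField 2 2, inferInstance, inferInstance, inferInstance, Or.inl ⟨?_, ⟨e.trans f⟩⟩⟩))))))
    rw [hF]
    norm_num
  · obtain ⟨y, hy, hC⟩ := GTwoSeven.exists_seven hF
    refine ⟨(e.trans f).symm y, ?_, ?_⟩
    · rw [MulEquiv.orderOf_eq, hy]
    · rw [card_centralizer_congr, hC]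

end Trans

section Abs

variable {X : Type u} [Group X] [Finite X] {w v r z : X} {L : Subgroup X} (S : Abs.Setup w v r z L)
include S

theorem isPGroup_Z : IsPGroup 2 S.Z :=
  IsPGroup.of_card (n := 2) (by rw [S.card_Z]; norm_num)

theorem cent_le {g : X} (hg : g ∈ centralizer (S.Z : Set X)) : g * w = w * g :=
  ((mem_centralizer_iff.1 hg) w S.w_mem).symm

theorem L_le_cent : L ≤ centralizer (S.Z : Set X) := by
  intro l hl
  rw [mem_centralizer_iff]
  intro a ha
  exact (S.cent_LZ l hl a ha).symm

theorem Z_le_cent : S.Z ≤ centralizer (S.Z : Set X) := by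
  intro a ha
  rw [mem_centralizer_iff]
  intro b hb
  exact S.Z_comm b hb a ha

theorem sq_mem {g : X} (hg : g * w = w * g) : g * g ∈ S.ZL := by
  rw [S.mul_mem_iff hg hg]

/-- the elements of order seven of `C(w)` lie in `L` -/
theorem mem_L {g : X} (hg : g * w = w * g) (h7 : g ^ 7 = 1) : g ∈ L := by
  have h1 : g ∈ S.ZL := by
    have h2 : g = (g * g) ^ 4 := by
      calc g = g ^ 7 * g := by rw [h7, one_mul]
        _ = (g * g) ^ 4 := by rw [← pow_two, ← pow_mul, ← pow_succ]
    rw [h2]
    exact S.ZL.pow_mem (sq_mem S hg) 4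
  obtain ⟨a, ha, l, hl, rfl⟩ := h1
  have hc : Commute a l := (S.cent_LZ l hl a ha).symm
  have ha2 : a ^ 4 = 1 := by
    have := pow_card_eq_one' (x := (⟨a, ha⟩ : S.Z))
    rw [S.card_Z] at this
    exact congrArg Subtype.val this
  have h3 : a * l = l ^ 8 := by
    calc a * l = (a * l) ^ 7 * (a * l) := by rw [h7, one_mul]
      _ = (a * l) ^ 8 := by rw [← pow_succ]
      _ = a ^ 8 * l ^ 8 := hc.mul_pow 8
      _ = (a ^ 4) ^ 2 * l ^ 8 := by rw [← pow_mul]
      _ = l ^ 8 := by rw [ha2, one_pow, one_mul]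
  rw [h3]
  exact L.pow_mem hl 8

theorem nn_of_setup (e : L ≃* StdG24.Mod6.L) : ∃ x : X, orderOf x = 7 ∧
    ∀ M : Ideal AlgInt, IsPModular 2 M → NN M (cl x) := by
  set C := centralizer (S.Z : Set X) with hC
  have hLC : L ≤ C := L_le_cent S
  set e' : L.subgroupOf C ≃* L := subgroupOfEquivOfLe hLC with he'
  obtain ⟨hK, hsplit, y, hy, hyC⟩ := facts (e'.trans e)
  have hconj : ∀ z : L.subgroupOf C, orderOf z = 7 → IsConj y z := fun z hz =>
    GTwoSeven.isConj_seven hK hy hyC hz
  have hyo : orderOf ((y : C) : X) = 7 := by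
    rw [← hy, ← Subgroup.orderOf_coe, ← Subgroup.orderOf_coe]
  refine ⟨((y : C) : X), hyo, fun M hM => ?_⟩
  have hN : (L.subgroupOf C).Normal := ⟨fun n hn c => S.conj_L (cent_le S c.2) hn⟩
  refine NN.brauer hM (isPGroup_Z S) (Z_le_cent S) (fun g x => cl_conj _ _ _) (cl_mem hM _) ?_
  refine NN.normal (N := L.subgroupOf C) (fun g x => cl_conj _ _ _) ?_ ?_
  · intro g hg
    apply cl_neg
    intro hc
    apply hg
    rw [Subgroup.mem_subgroupOf]
    refine mem_L S (cent_le S g.2) ?_
    obtain ⟨c, hc⟩ := isConj_iff.1 hc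
    rw [← hc, conj_pow, ← hyo, pow_orderOf_eq_one]
    group
  · have key : (fun n : L.subgroupOf C => cl ((y : C) : X) ((n : C) : X)) = cl y := by
      funext n
      by_cases h : IsConj y n
      · rw [cl_pos h, cl_pos]
        exact C.subtype.map_isConj ((L.subgroupOf C).subtype.map_isConj h)
      · rw [cl_neg h, cl_neg]
        intro hc
        apply h
        apply hconj
        obtain ⟨c, hc⟩ := isConj_iff.1 hc
        rw [← Subgroup.orderOf_coe, ← Subgroup.orderOf_coe, ← hc, ← hyo]
        exact MulEquiv.orderOf_eq (MulAut.conj c) ((y : C) : X)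
    show NN M (fun n : L.subgroupOf C => cl ((y : C) : X) ((n : C) : X))
    rw [key]
    exact GTwoSeven.nn_seven hK hsplit hy hyC hM

end Abs

/-- **`Co₁`.** -/
theorem loc_Co1 {S : Type u} [Group S] [Finite S] (h : Cfsg.Spor.IsoCo1 S) : Loc S := by
  obtain ⟨e⟩ := h
  have hfin : Finite Spor.Co1 := Finite.of_equiv S e.toEquiv
  obtain ⟨x, hx, hM⟩ := nn_of_setup Main.setup GTwo.φ.symm
  refine ⟨e.symm x, ?_, fun M h2 => NN.of_equiv e ?_⟩
  · have e1 : centralizer ({e.symm x} : Set S) =
        (centralizer ({x} : Set Spor.Co1)).comap e.toMonoidHom := by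
      ext g
      rw [Subgroup.mem_comap, mem_centralizer_singleton_iff, mem_centralizer_singleton_iff]
      constructor
      · intro h
        have := congrArg e h
        simpa using this
      · intro h
        apply e.injective
        simpa using h
    rw [e1, Subgroup.index_comap_of_surjective _ e.surjective]
    exact SevenCo1.four_dvd_index hx
  · rw [e.apply_symm_apply]
    exact hM M h2

end Cfsg.Agent.H686.Four.CoOne
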