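import Cfsg.Agent.H600.AltFix
import Cfsg.Agent.H664.R1.PSLTwo

/-!
# Alternating groups have a degree divisible by four, except `A₇` (for S5009, S5004, S5007)

* `n` even: the partition `(n-3,2,1)` has degree `n (n-2) (n-4) / 3`, divisible by 16;
* `n ≡ 1` mod 4: the degree `n - 1`;
* `n ≡ 3` mod 4, `n ≥ 11`: the partition `(n-6,3,3)` has degree
  `n (n-1) (n-2) (n-3) (n-7) (n-8) / 144`.
-/

set_option autoImplicit false

namespace Cfsg.Agent.H686.Four

open Cfsg Cfsg.Agent.H600.AltDeg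

universe u

theorem dg_one_three {n : ℕ} (hn : 6 ≤ n) : dg n 1 3 (n - 1) * 3 = n * (n - 2) * (n - 4) := by
  have h := dg_formula (n := n) (a := 1) (b := 3) (c := n - 1) (by norm_num) (by omega) (by omega)
  obtain ⟨k, rfl⟩ : ∃ k, n = k + 6 := ⟨n - 6, by omega⟩
  have e1 : k + 6 - 1 = k + 5 := by omega
  rw [e1] at h ⊢
  have e2 : (k + 6).factorial = (k + 6) * (k + 5).factorial := Nat.factorial_succ _
  rw [e2] at h
  have e3 : k + 6 - 2 = k + 4 := by omega
  have e4 : k + 6 - 4 = k + 2 := by omega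
  have e5 : k + 5 - 1 = k + 4 := by omega
  have e6 : k + 5 - 3 = k + 2 := by omega
  rw [e5, e6] at h
  rw [e3, e4]
  have h3 : Nat.factorial 1 * Nat.factorial 3 = 6 := by decide
  have hpos : 0 < (k + 5).factorial := Nat.factorial_pos _
  apply Nat.eq_of_mul_eq_mul_right (show 0 < 2 * (k + 5).factorial by positivity)
  calc dg (k + 6) 1 3 (k + 5) * 3 * (2 * (k + 5).factorial)
      = dg (k + 6) 1 3 (k + 5) * (Nat.factorial 1 * Nat.factorial 3 * (k + 5).factorial) := by rw [h3]; ring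
    _ = _ := by rw [h]; ring

theorem dg_zero_two {n : ℕ} (hn : 5 ≤ n) : dg n 0 2 (n + 1) = n - 1 := by
  have h := dg_formula (n := n) (a := 0) (b := 2) (c := n + 1) (by norm_num) (by omega) (by omega)
  rw [Nat.factorial_succ n] at h
  have e6 : n + 1 - 2 = n - 1 := by omega
  rw [e6] at h
  have h3 : Nat.factorial 0 * Nat.factorial 2 = 2 := by decide
  have hpos : 0 < n.factorial := Nat.factorial_pos _
  apply Nat.eq_of_mul_eq_mul_right (show 0 < 2 * ((n + 1) * n.factorial) by positivity)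
  calc dg n 0 2 (n + 1) * (2 * ((n + 1) * n.factorial))
      = dg n 0 2 (n + 1) * (Nat.factorial 0 * Nat.factorial 2 * ((n + 1) * n.factorial)) := by rw [h3]
    _ = _ := by rw [h, Nat.sub_zero, Nat.sub_zero]; ring

theorem dg_three_four {n : ℕ} (hn : 11 ≤ n) :
    dg n 3 4 (n - 4) * 144 = n * (n - 1) * (n - 2) * (n - 3) * (n - 7) * (n - 8) := by
  have h := dg_formula (n := n) (a := 3) (b := 4) (c := n - 4) (by norm_num) (by omega) (by omega)
  obtain ⟨k, rfl⟩ : ∃ k, n = k + 8 := ⟨n - 8, by omega⟩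
  have e1 : k + 8 - 4 = k + 4 := by omega
  rw [e1] at h ⊢
  have e2 : (k + 8).factorial = (k + 8) * ((k + 7) * ((k + 6) * ((k + 5) * (k + 4).factorial))) := by
    rw [Nat.factorial_succ, Nat.factorial_succ, Nat.factorial_succ, Nat.factorial_succ]
  rw [e2] at h
  have e3 : k + 8 - 1 = k + 7 := by omega
  have e4 : k + 8 - 2 = k + 6 := by omega
  have e5 : k + 8 - 3 = k + 5 := by omega
  have e6 : k + 8 - 7 = k + 1 := by omega
  have e7 : k + 8 - 8 = k := by omega
  have e8 : k + 4 - 3 = k + 1 := by omega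
  have e9 : k + 4 - 4 = k := by omega
  rw [e8, e9] at h
  rw [e3, e4, e5, e6, e7]
  have h3 : Nat.factorial 3 * Nat.factorial 4 = 144 := by decide
  have hpos : 0 < (k + 4).factorial := Nat.factorial_pos _
  apply Nat.eq_of_mul_eq_mul_right hpos
  calc dg (k + 8) 3 4 (k + 4) * 144 * (k + 4).factorial
      = dg (k + 8) 3 4 (k + 4) * (Nat.factorial 3 * Nat.factorial 4 * (k + 4).factorial) := by rw [h3]; ring
    _ = _ := by rw [h]; ring

/-- `PSL₂(5)` -/
theorem im4_five : H33.IM 4 (alternatingGroup (Fin 5)) := by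
  let K := ZMod 5
  have : Fact (Nat.Prime 5) := ⟨Nat.prime_five⟩
  have h5 : Fintype.card K = 5 := ZMod.card 5
  have hc1 : Nat.card (Matrix.ProjectiveSpecialLinearGroup (Fin 2) K) = 60 := by
    have h := SmallSimple.PSLTwoPart.card_psl_two_odd (F := K) (by rw [h5]; decide)
    rw [h5] at h
    omega
  obtain ⟨e1⟩ := OddCyclic.T1Socle.equiv_alternating (F' := K) (by rw [h5]; norm_num) hc1
  obtain ⟨-, h, -⟩ := H664.R1.PSLTwo.degrees_five (F := K) h5
  exact (H664.R1.PSLTwo.im_of_mem h (dvd_refl 4)).of_equiv e1.symm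

/-- **Alternating groups.** -/
theorem im4_alt {n : ℕ} (hn : 5 ≤ n) (h7 : n ≠ 7) : H33.IM 4 (alternatingGroup (Fin n)) := by
  have key : n % 2 = 0 ∨ n % 4 = 1 ∨ n % 4 = 3 := by omega
  rcases key with h0 | h1 | h3
  · -- `n` even
    have h := dg_one_three (n := n) (by omega)
    have h16 : 16 ∣ dg n 1 3 (n - 1) := by
      obtain ⟨k, rfl⟩ : ∃ k, n = 2 * (k + 2) := ⟨n / 2 - 2, by omega⟩
      have e1 : 2 * (k + 2) - 2 = 2 * (k + 1) := by omega
      have e2 : 2 * (k + 2) - 4 = 2 * k := by omega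
      rw [e1, e2] at h
      have h2 : 2 ∣ (k + 2) * (k + 1) := by
        rcases Nat.even_or_odd k with ⟨c, hc⟩ | ⟨c, hc⟩
        · exact Dvd.dvd.mul_right ⟨c + 1, by omega⟩ _
        · exact Dvd.dvd.mul_left ⟨c + 1, by omega⟩ _
      obtain ⟨c, hc⟩ := h2
      have h5 : dg (2 * (k + 2)) 1 3 (2 * (k + 2) - 1) * 3 = 16 * (c * k) := by
        rw [h]
        calc 2 * (k + 2) * (2 * (k + 1)) * (2 * k) = 8 * ((k + 2) * (k + 1)) * k := by ring
          _ = _ := by rw [hc]; ring
      exact (Nat.Coprime.dvd_of_dvd_mul_right (by norm_num) (Dvd.intro _ h5.symm))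
    obtain ⟨θ, h1 | ⟨h1, -⟩⟩ := exists_alt (n := n) (a := 1) (b := 3) (c := n - 1) (by omega) (by norm_num)
      (by omega) (by omega) (by omega)
    · exact ⟨θ, by rw [← h1]; exact (by norm_num : 4 ∣ 16).trans h16⟩
    · refine ⟨θ, ?_⟩
      rw [h1] at h16
      omega
  · by_cases h5 : n = 5
    · subst h5
      exact im4_five
    · have h := dg_zero_two (n := n) (by omega)
      exact exists_two (n := n) (a := 0) (b := 2) (c := n + 1) (L := n - 3) (m := 4) (by omega) (by norm_num)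
        (by omega) (by omega) (by omega) (by omega) (by omega) (by omega) (by omega)
        (by rw [Nat.even_iff]; omega) (by omega) (by rw [h]; omega)
  · have h11 : 11 ≤ n := by omega
    have h := dg_three_four h11
    refine exists_two (n := n) (a := 3) (b := 4) (c := n - 4) (L := n - 5) (m := 4) (by omega) (by norm_num)
      (by omega) (by omega) (by omega) (by omega) (by omega) (by omega) (by omega)
      (by rw [Nat.even_iff]; omega) (by omega) ?_
    obtain ⟨k, rfl⟩ : ∃ k, n = 4 * k + 11 := ⟨(n - 11) / 4, by omega⟩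
    have e1 : 4 * k + 11 - 1 = 2 * (2 * k + 5) := by omega
    have e2 : 4 * k + 11 - 3 = 4 * (k + 2) := by omega
    have e3 : 4 * k + 11 - 7 = 4 * (k + 1) := by omega
    have e4 : 4 * k + 11 - 2 = 4 * k + 9 := by omega
    have e5 : 4 * k + 11 - 8 = 4 * k + 3 := by omega
    rw [e1, e2, e3, e4, e5] at h
    have h2 : 2 ∣ (k + 2) * (k + 1) := by
      rcases Nat.even_or_odd k with ⟨c, hc⟩ | ⟨c, hc⟩
      · exact Dvd.dvd.mul_right ⟨c + 1, by omega⟩ _
      · exact Dvd.dvd.mul_left ⟨c + 1, by omega⟩ _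
    obtain ⟨c, hc⟩ := h2
    have h5 : dg (4 * k + 11) 3 4 (4 * k + 11 - 4) * 9 = 4 * ((4 * k + 11) * (2 * k + 5) * (4 * k + 9) * c * (4 * k + 3)) := by
      apply Nat.eq_of_mul_eq_mul_right (show 0 < 16 by norm_num)
      calc dg (4 * k + 11) 3 4 (4 * k + 11 - 4) * 9 * 16 = dg (4 * k + 11) 3 4 (4 * k + 11 - 4) * 144 := by ring
        _ = (4 * k + 11) * (2 * (2 * k + 5)) * (4 * k + 9) * (4 * (k + 2)) * (4 * (k + 1)) * (4 * k + 3) := h
        _ = 32 * ((4 * k + 11) * (2 * k + 5) * (4 * k + 9) * ((k + 2) * (k + 1)) * (4 * k + 3)) := by ring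
        _ = _ := by rw [hc]; ring
    exact (Nat.Coprime.dvd_of_dvd_mul_right (by norm_num) (Dvd.intro _ h5.symm))

theorem im4_alt_equiv {n : ℕ} (hn : 5 ≤ n) (h7 : n ≠ 7) {S : Type u} [Group S]
    (e : S ≃* alternatingGroup (Fin n)) : H33.IM 4 S :=
  (im4_alt hn h7).of_equiv e

end Cfsg.Agent.H686.Four
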