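import Cfsg.Agent.CoOneType.ClosingFacts
import Mathlib

/-!
# The class of an element of order seven of `Co₁` has length divisible by four

If not, a conjugate `x` of the element centralises a subgroup of index at most two in the group of sign changes,
so that its lift to `Co₀` is (almost) diagonal.
-/

set_option autoImplicit false

open Cfsg

namespace Cfsg.Agent.H686.Four.SevenCo1

/-! ### orbits -/

section Orbit

variable {E X : Type*} [Group E] [MulAction E X]

theorem exists_small_orbit [Finite E] [Finite X] (hE : IsPGroup 2 E) (h : ¬ 4 ∣ Nat.card X) :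
    ∃ x : X, (MulAction.stabilizer E x).index = 1 ∨ (MulAction.stabilizer E x).index = 2 := by
  classical
  have h2 : Fact (Nat.Prime 2) := ⟨Nat.prime_two⟩
  by_contra hcon
  push Not at hcon
  apply h
  have := Fintype.ofFinite (Quotient (MulAction.orbitRel E X))
  rw [Nat.card_congr (MulAction.selfEquivSigmaOrbits E X), Nat.card_sigma]
  refine Finset.dvd_sum fun ω _ => ?_
  obtain ⟨k, hk⟩ := hE.card_orbit (α := X) ω.out
  obtain ⟨h1, h3⟩ := hcon ω.out
  rw [MulAction.index_stabilizer, ← Nat.card_coe_set_eq, hk] at h1 h3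
  have h5 : 2 ≤ k := by
    by_contra h5
    have h6 : k = 0 ∨ k = 1 := by omega
    rcases h6 with rfl | rfl
    · exact h1 rfl
    · exact h3 rfl
  rw [hk]
  exact pow_dvd_pow 2 h5

theorem mem_or_of_index {S : Subgroup E} (h : S.index = 1 ∨ S.index = 2) (a b : E) :
    a ∈ S ∨ b ∈ S ∨ a * b ∈ S := by
  rcases h with h | h
  · rw [Subgroup.index_eq_one] at h
    rw [h]
    exact Or.inl (Subgroup.mem_top _)
  · rw [Subgroup.mul_mem_iff_of_index_two h]
    tauto

/-- A conjugate of `x` centralises a subgroup of index at most two in the 2-subgroup `E`. -/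
theorem exists_conj {G : Type*} [Group G] [Finite G] {x : G}
    (h : ¬ 4 ∣ (Subgroup.centralizer ({x} : Set G)).index) {E : Subgroup G} (hE : IsPGroup 2 E) :
    ∃ g : G, ∀ a ∈ E, ∀ b ∈ E, Commute a (g * x * g⁻¹) ∨ Commute b (g * x * g⁻¹) ∨
      Commute (a * b) (g * x * g⁻¹) := by
  rw [Subgroup.index_eq_card] at h
  obtain ⟨q, hq⟩ := exists_small_orbit (E := E) (X := G ⧸ Subgroup.centralizer ({x} : Set G)) hE h
  induction q using QuotientGroup.induction_on with
  | H g =>
    refine ⟨g, fun a ha b hb => ?_⟩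
    have key : ∀ e : E, e ∈ MulAction.stabilizer E (g : G ⧸ Subgroup.centralizer ({x} : Set G)) →
        Commute (e : G) (g * x * g⁻¹) := by
      intro e he
      rw [MulAction.mem_stabilizer_iff] at he
      have h1 : (((e : G) * g : G) : G ⧸ Subgroup.centralizer ({x} : Set G)) = (g : G ⧸ Subgroup.centralizer ({x} : Set G)) := he
      rw [eq_comm, QuotientGroup.eq, Subgroup.mem_centralizer_singleton_iff] at h1
      have h2 : (e : G) * (g * x * g⁻¹) = g * (g⁻¹ * (e * g) * x) * g⁻¹ := by group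
      have h3 : (g * x * g⁻¹) * (e : G) = g * (x * (g⁻¹ * (e * g))) * g⁻¹ := by group
      show (e : G) * (g * x * g⁻¹) = (g * x * g⁻¹) * e
      rw [h2, h3, h1]
    rcases mem_or_of_index hq ⟨a, ha⟩ ⟨b, hb⟩ with h1 | h1 | h1
    · exact Or.inl (key _ h1)
    · exact Or.inr (Or.inl (key _ h1))
    · exact Or.inr (Or.inr (key _ h1))

end Orbit

/-! ### three points of the Golay code -/

open Cfsg.Agent.SporadicA.GolayBase Cfsg.Agent.SporadicA.Co1Simple
  Cfsg.Agent.SporadicStructure.Co0Base Cfsg.Agent.CoOneType.ClosingFacts Cfsg.Agent.CoOneType.SignFacts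
open Cfsg.Agent.SporadicA.Co0Mono hiding mk

/-- the code word number `t` -/
def cw (t : ℕ) : ℕ := if t < 23 then qrMask t else qrMask (t - 23) ^^^ 16777215

theorem cw_mem {t : ℕ} (ht : t < 46) : word (cw t) ∈ golayCode := by
  unfold cw
  split_ifs with h
  · exact qrMask_mem t h
  · exact word_xor_mem (qrMask_mem _ (by omega)) all_mem

/-- a code word containing `j` but neither `i` nor `k` -/
def sep (i j k : ℕ) : Bool :=
  Nat.beq i j || Nat.beq j k || (List.range 46).any fun t =>
    !(cw t).testBit i && (cw t).testBit j && !(cw t).testBit k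

theorem sep_all : allR 5 0 (fun i => allR 5 0 fun j => allR 5 0 fun k =>
    Nat.ble 24 i || Nat.ble 24 j || Nat.ble 24 k || sep i j k) = true := by decide +kernel

theorem exists_sep {i j k : GolayPt} (hij : i ≠ j) (hjk : j ≠ k) :
    ∃ c : golayCode, (c : GolayPt → ZMod 2) i = 0 ∧ (c : GolayPt → ZMod 2) j = 1 ∧
      (c : GolayPt → ZMod 2) k = 0 := by
  have hi := idx_lt i
  have hj := idx_lt j
  have hk := idx_lt k
  have h1 := allR_zero_spec (allR_zero_spec (allR_zero_spec sep_all (idx i) (by omega)) (idx j) (by omega))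
    (idx k) (by omega)
  have e1 : Nat.ble 24 (idx i) = false := by rw [← Bool.not_eq_true, Nat.ble_eq]; omega
  have e2 : Nat.ble 24 (idx j) = false := by rw [← Bool.not_eq_true, Nat.ble_eq]; omega
  have e3 : Nat.ble 24 (idx k) = false := by rw [← Bool.not_eq_true, Nat.ble_eq]; omega
  rw [e1, e2, e3, Bool.false_or, Bool.false_or, Bool.false_or] at h1
  unfold sep at h1
  have e4 : Nat.beq (idx i) (idx j) = false := by
    rw [← Bool.not_eq_true, Nat.beq_eq]
    exact fun h => hij (idx_injective h)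
  have e5 : Nat.beq (idx j) (idx k) = false := by
    rw [← Bool.not_eq_true, Nat.beq_eq]
    exact fun h => hjk (idx_injective h)
  rw [e4, e5, Bool.false_or, Bool.false_or, List.any_eq_true] at h1
  obtain ⟨t, ht, h2⟩ := h1
  rw [Bool.and_eq_true, Bool.and_eq_true, Bool.not_eq_true', Bool.not_eq_true'] at h2
  refine ⟨⟨word (cw t), cw_mem (List.mem_range.1 ht)⟩, ?_, ?_, ?_⟩
  · show word (cw t) i = 0
    rw [word_apply, h2.1.1]
    rfl
  · show word (cw t) j = 1
    rw [word_apply, h2.1.2]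
    rfl
  · show word (cw t) k = 0
    rw [word_apply, h2.2]
    rfl

/-! ### almost diagonal elements -/

theorem sgn_inj : ∀ a b : ZMod 2, sgn a = sgn b → a = b := by decide

/-- An element commuting with a sign change. -/
theorem eq_of_ne {g : Co0} {d : golayCode} (h : Commute (signCo0 d) g) {i j : GolayPt}
    (hv : ((g • e8 i : leechLattice) : GolayPt → ℤ) j ≠ 0) :
    (d : GolayPt → ZMod 2) i = (d : GolayPt → ZMod 2) j := by
  have h1 : signCo0 d • (g • e8 i) = g • (signCo0 d • e8 i) := by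
    rw [← mul_smul, ← mul_smul, h.eq]
  have h2 := congrArg (fun v : leechLattice => (v : GolayPt → ℤ) j) h1
  have h3 : ((signCo0 d • (g • e8 i) : leechLattice) : GolayPt → ℤ) j =
      sgn ((d : GolayPt → ZMod 2) j) * ((g • e8 i : leechLattice) : GolayPt → ℤ) j := by
    rw [signCo0_smul, signMap_apply]
  have h4 : signCo0 d • e8 i = sgn ((d : GolayPt → ZMod 2) i) • e8 i := by
    apply Subtype.ext
    funext k
    rw [signCo0_smul, signMap_apply]
    show _ = (sgn ((d : GolayPt → ZMod 2) i) • ((e8 i : leechLattice) : GolayPt → ℤ)) k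
    rw [Pi.smul_apply, e8_coe, smul_eq_mul]
    by_cases hk : k = i
    · subst hk; rfl
    · simp [hk]
  have h5 : ((g • (signCo0 d • e8 i) : leechLattice) : GolayPt → ℤ) j =
      sgn ((d : GolayPt → ZMod 2) i) * ((g • e8 i : leechLattice) : GolayPt → ℤ) j := by
    rw [h4, Cfsg.Agent.SporadicA.Co0Mono.smul_zsmul]
    rfl
  have h6 : sgn ((d : GolayPt → ZMod 2) j) * ((g • e8 i : leechLattice) : GolayPt → ℤ) j =
      sgn ((d : GolayPt → ZMod 2) i) * ((g • e8 i : leechLattice) : GolayPt → ℤ) j := by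
    rw [← h3, ← h5]
    exact h2
  exact (sgn_inj _ _ (mul_right_cancel₀ hv h6)).symm

/-- commuting with a subgroup of index at most two of the group of sign changes -/
def Half (g : Co0) : Prop :=
  ∀ a b : golayCode, Commute (signCo0 a) g ∨ Commute (signCo0 b) g ∨ Commute (signCo0 (a + b)) g

/-- `i` and `j` are not separated -/
def Rel (g : Co0) (i j : GolayPt) : Prop :=
  ∀ d : golayCode, Commute (signCo0 d) g → (d : GolayPt → ZMod 2) i = (d : GolayPt → ZMod 2) j

theorem Rel.trans {g : Co0} {i j k : GolayPt} (h1 : Rel g i j) (h2 : Rel g j k) : Rel g i k :=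
  fun d hd => (h1 d hd).trans (h2 d hd)

theorem Rel.symm {g : Co0} {i j : GolayPt} (h1 : Rel g i j) : Rel g j i :=
  fun d hd => (h1 d hd).symm

theorem Half.eq_of_rel {g : Co0} (h : Half g) {i j k : GolayPt} (hij : i ≠ j) (hik : i ≠ k)
    (h1 : Rel g i j) (h2 : Rel g i k) : j = k := by
  by_contra hjk
  obtain ⟨c, c1, c2, c3⟩ := exists_sep hij hjk
  obtain ⟨c', c1', c2', c3'⟩ := exists_sep hik (Ne.symm hjk)
  rcases h c c' with h3 | h3 | h3
  · have := h1 c h3
    rw [c1, c2] at this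
    exact zero_ne_one this
  · have := h2 c' h3
    rw [c1', c2'] at this
    exact zero_ne_one this
  · have := h1 _ h3
    have e1 : ((c + c' : golayCode) : GolayPt → ZMod 2) i = (c : GolayPt → ZMod 2) i + (c' : GolayPt → ZMod 2) i := rfl
    have e2 : ((c + c' : golayCode) : GolayPt → ZMod 2) j = (c : GolayPt → ZMod 2) j + (c' : GolayPt → ZMod 2) j := rfl
    rw [e1, e2, c1, c1', c2, c3'] at this
    revert this
    decide

theorem sq_cases {a b : ℤ} (h : a ^ 2 + b ^ 2 = 64) : (∃ u, a = 8 * u) ∧ ∃ u, b = 8 * u := by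
  have ha : a ≤ 8 := by nlinarith
  have ha' : -8 ≤ a := by nlinarith
  have hb : b ≤ 8 := by nlinarith
  have hb' : -8 ≤ b := by nlinarith
  have key : ∀ a ∈ Finset.Icc (-8 : ℤ) 8, ∀ b ∈ Finset.Icc (-8 : ℤ) 8, a ^ 2 + b ^ 2 = 64 →
      (a % 8 = 0 ∧ b % 8 = 0) := by decide
  obtain ⟨h1, h2⟩ := key a (Finset.mem_Icc.2 ⟨ha', ha⟩) b (Finset.mem_Icc.2 ⟨hb', hb⟩) h
  exact ⟨⟨a / 8, by omega⟩, ⟨b / 8, by omega⟩⟩

theorem Half.mem_cross {g : Co0} (h : Half g) (i : GolayPt) : g • e8 i ∈ crossSet := by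
  classical
  set v : leechLattice := g • e8 i with hv
  have hn : sqNorm (v : GolayPt → ℤ) = 64 := by rw [hv, sqNorm_smul, sqNorm_e8]
  have hR : ∀ j, (v : GolayPt → ℤ) j ≠ 0 → Rel g i j := fun j hj d hd => eq_of_ne hd hj
  apply mem_crossSet_of_eight v hn
  by_cases hex : ∃ j, j ≠ i ∧ (v : GolayPt → ℤ) j ≠ 0
  · obtain ⟨j, hji, hj⟩ := hex
    have h0 : ∀ k, k ≠ i → k ≠ j → (v : GolayPt → ℤ) k = 0 := by
      intro k hki hkj
      by_contra hk
      exact hkj (h.eq_of_rel (Ne.symm hki) (Ne.symm hji) (hR k hk) (hR j hj))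
    have h1 : (v : GolayPt → ℤ) i ^ 2 + (v : GolayPt → ℤ) j ^ 2 = 64 := by
      rw [← hn, sqNorm, ← Finset.sum_pair (f := fun k => (v : GolayPt → ℤ) k ^ 2) (Ne.symm hji)]
      apply Finset.sum_subset (Finset.subset_univ _)
      intro k _ hk
      rw [Finset.mem_insert, Finset.mem_singleton, not_or] at hk
      rw [h0 k hk.1 hk.2]
      norm_num
    intro k
    by_cases hki : k = i
    · rw [hki]; exact (sq_cases h1).1
    · by_cases hkj : k = j
      · rw [hkj]; exact (sq_cases h1).2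
      · exact ⟨0, by rw [h0 k hki hkj, mul_zero]⟩
  · push Not at hex
    have h1 : (v : GolayPt → ℤ) i ^ 2 + (0 : ℤ) ^ 2 = 64 := by
      rw [← hn, sqNorm, Finset.sum_eq_single i]
      · ring
      · intro k _ hk
        rw [hex k hk]
        norm_num
      · intro h'
        exact absurd (Finset.mem_univ _) h'
    intro k
    by_cases hki : k = i
    · rw [hki]; exact (sq_cases h1).1
    · exact ⟨0, by rw [hex k hki, mul_zero]⟩

theorem Half.eq_one {g : Co0} (h : Half g) (h7 : g ^ 7 = 1) : g = 1 := by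
  obtain ⟨c, σ, hg⟩ := exists_sign_perm (mem_N_of_e8 h.mem_cross)
  have hval : ∀ i, g • e8 i = e8 ((σ : Equiv.Perm GolayPt) i) ∨ g • e8 i = -e8 ((σ : Equiv.Perm GolayPt) i) := by
    intro i
    rw [hg, mul_smul, perm_smul_e8]
    exact sgn_smul_e8 _ _
  have hR : ∀ i, Rel g i ((σ : Equiv.Perm GolayPt) i) := by
    intro i d hd
    apply eq_of_ne hd
    rcases hval i with h1 | h1
    · rw [h1, e8_coe]; simp
    · rw [h1]
      show -((e8 _ : leechLattice) : GolayPt → ℤ) _ ≠ 0
      rw [e8_coe]; simp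
  have hσ7 : σ ^ 7 = 1 := by
    obtain ⟨d, hd⟩ := sign_perm_pow c σ 7
    rw [← hg, h7] at hd
    exact perm_eq_one hd.symm
  have hσ : σ = 1 := by
    apply Subtype.ext
    ext1 i
    show (σ : Equiv.Perm GolayPt) i = i
    by_contra hne
    have h2 : (σ : Equiv.Perm GolayPt) ((σ : Equiv.Perm GolayPt) i) = i := by
      refine h.eq_of_rel (i := (σ : Equiv.Perm GolayPt) i) ?_ hne (hR _) (hR i).symm
      intro h3
      exact hne ((σ : Equiv.Perm GolayPt).injective h3.symm)
    have h3 : ((σ : Equiv.Perm GolayPt) ^ 7) i = i := by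
      have h4 : ((σ ^ 7 : M24) : Equiv.Perm GolayPt) = 1 := by rw [hσ7]; rfl
      have h5 : ((σ ^ 7 : M24) : Equiv.Perm GolayPt) = (σ : Equiv.Perm GolayPt) ^ 7 := rfl
      rw [← h5, h4]
      rfl
    apply hne
    have h4 : ((σ : Equiv.Perm GolayPt) ^ 7) i = (σ : Equiv.Perm GolayPt) i := by
      show (σ : Equiv.Perm GolayPt) ((σ : Equiv.Perm GolayPt) ((σ : Equiv.Perm GolayPt) ((σ : Equiv.Perm GolayPt)
        ((σ : Equiv.Perm GolayPt) ((σ : Equiv.Perm GolayPt) ((σ : Equiv.Perm GolayPt) i)))))) = _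
      rw [h2, h2, h2]
    rw [← h4, h3]
  rw [hσ, map_one, mul_one] at hg
  have h2 : g * g = 1 := by rw [hg]; exact signCo0_mul_self c
  calc g = g ^ 7 * (g * g)⁻¹ * (g * g)⁻¹ * (g * g)⁻¹ := by group
    _ = 1 := by rw [h7, h2]; group

/-! ### down to `Co₁` -/

theorem J_sq : signCo0 allOne * signCo0 allOne = 1 := signCo0_mul_self _

theorem J_ne : signCo0 allOne ≠ 1 := by
  intro h
  have h1 := congrArg (fun g : Co0 => g • e8 none) h
  simp only [allOne_smul, one_smul] at h1
  exact e8_ne_neg none none h1.symm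

theorem exists_lift {x : Spor.Co1} (hx : x ^ 7 = 1) : ∃ t : Co0, mk t = x ∧ t ^ 7 = 1 := by
  obtain ⟨t, ht⟩ := exists_mk x
  have h1 : mk (t ^ 7) = 1 := by
    have : mk (t ^ 7) = (mk t) ^ 7 := rfl
    rw [this, ht, hx]
  rcases (mk_eq_one _).1 h1 with h2 | h2
  · exact ⟨t, ht, h2⟩
  · refine ⟨t * signCo0 allOne, ?_, ?_⟩
    · rw [mk_mul, ht, (mk_eq_one _).2 (Or.inr rfl), mul_one]
    · have hc : Commute t (signCo0 allOne) := sign_allOne_comm t
      rw [hc.mul_pow, h2]
      calc signCo0 allOne * signCo0 allOne ^ 7 = (signCo0 allOne * signCo0 allOne) ^ 4 := by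
            rw [← pow_two, ← pow_mul, ← pow_succ']
        _ = 1 := by rw [J_sq, one_pow]

theorem commute_lift {s t : Co0} (h7 : t ^ 7 = 1) (h : Commute (mk s) (mk t)) : Commute s t := by
  have h1 : mk (s * t) = mk (t * s) := h
  rcases (mk_eq _ _).1 h1 with h2 | h2
  · exact h2
  · exfalso
    have hc : Commute t (signCo0 allOne) := sign_allOne_comm t
    have h3 : s * t * s⁻¹ = t * signCo0 allOne := by
      rw [h2, mul_assoc t s, sign_allOne_comm s]
      group
    have h4 : (s * t * s⁻¹) ^ 7 = 1 := by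
      rw [conj_pow, h7]; group
    rw [h3, hc.mul_pow, h7, one_mul] at h4
    apply J_ne
    calc signCo0 allOne = signCo0 allOne ^ 7 * ((signCo0 allOne * signCo0 allOne)⁻¹) ^ 3 := by group
      _ = 1 := by rw [h4, J_sq]; group

/-- the group of sign changes -/
def signs : Subgroup Spor.Co1 where
  carrier := {x | ∃ c : golayCode, x = mk (signCo0 c)}
  one_mem' := ⟨0, by rw [signCo0_zero]; rfl⟩
  mul_mem' := by
    rintro _ _ ⟨c, rfl⟩ ⟨d, rfl⟩
    exact ⟨c + d, by rw [signCo0_add, mk_mul]⟩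
  inv_mem' := by
    rintro _ ⟨c, rfl⟩
    exact ⟨c, by rw [← mk_inv, signCo0_inv]⟩

theorem isPGroup_signs : IsPGroup 2 signs := by
  rintro ⟨_, c, rfl⟩
  refine ⟨1, Subtype.ext ?_⟩
  show mk (signCo0 c) ^ 2 ^ 1 = 1
  rw [pow_one, pow_two, ← mk_mul, signCo0_mul_self]
  rfl

/-- **The class of an element of order seven has length divisible by four.** -/
theorem four_dvd_index [Finite Spor.Co1] {x : Spor.Co1} (hx : orderOf x = 7) :
    4 ∣ (Subgroup.centralizer ({x} : Set Spor.Co1)).index := by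
  by_contra hcon
  obtain ⟨g, hg⟩ := exists_conj hcon isPGroup_signs
  have h7 : (g * x * g⁻¹) ^ 7 = 1 := by
    rw [conj_pow, ← hx, pow_orderOf_eq_one]
    group
  obtain ⟨t, ht, ht7⟩ := exists_lift h7
  have hH : Half t := by
    intro a b
    rcases hg _ ⟨a, rfl⟩ _ ⟨b, rfl⟩ with h | h | h
    · exact Or.inl (commute_lift ht7 (ht ▸ h))
    · exact Or.inr (Or.inl (commute_lift ht7 (ht ▸ h)))
    · refine Or.inr (Or.inr (commute_lift ht7 ?_))
      rw [ht, signCo0_add, mk_mul]
      exact h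
  have h1 := hH.eq_one ht7
  rw [h1] at ht
  have h2 : x = 1 := by
    have h3 : g * x * g⁻¹ = 1 := ht.symm
    calc x = g⁻¹ * (g * x * g⁻¹) * g := by group
      _ = 1 := by rw [h3]; group
  rw [h2, orderOf_one] at hx
  norm_num at hx

end Cfsg.Agent.H686.Four.SevenCo1
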